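import Groth.Agent.S11133
import Groth.Agent.L20.DescLocus.Unit
import Groth.Agent.L20.DescLocus.AppIso
import Groth.Agent.L20.DescLocus.Mate
import Groth.Agent.L02.Canon.Pushforward
import Groth.Agent.L24.QCohDesc.Basic
import Groth.Agent.L18.AmplePull
import Groth.Agent.L03.ShStab.ExtTwistPn
import Groth.Agent.L21.Extend.Semilocal
import Groth.Agent.L14.ParaF.Basic

/-!
Faithfully flat descent for the two conditions of parafactoriality.
-/

set_option autoImplicit false
set_option linter.style.haveILetI false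
set_option backward.isDefEq.respectTransparency false
set_option backward.isDefEq.respectTransparency.types false

universe u

open CategoryTheory CategoryTheory.Limits AlgebraicGeometry TopologicalSpace Opposite

noncomputable section

namespace Groth.L07.ParaF

variable {X Y X' Y' : Scheme.{u}} {f : X ⟶ Y} {g : Y' ⟶ Y} {g' : X' ⟶ X} {f' : X' ⟶ Y'}

/-- For flat base change the degree zero base change map is an isomorphism. -/
theorem isIso_bc0_of_qs (pb : IsPullback g' f' f g) [QuasiCompact f] [QuasiSeparated f] [Flat g]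
    (F : X.Modules) [Coh.IsQCoh F] : IsIso (CohBC.bc0 f g f' g' pb.w F) := by
  have h := Groth.Agent.S11133.result f g g' f' pb F
  simpa [CohBC.bc0, CohBC.bc0Adj, Adjunction.homEquiv_counit] using h

/-- `f_* O = O` descends along faithfully flat morphisms. -/
theorem isIso_app_descent (pb : IsPullback g' f' f g) [QuasiCompact f] [QuasiSeparated f] [Flat g] [Surjective g]
    (h' : ∀ U : Y'.Opens, IsIso (f'.app U)) (U : Y.Opens) : IsIso (f.app U) := by
  haveI : IsIso ((Scheme.Modules.pullbackPushforwardAdjunction f').unit.app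
      ((Scheme.Modules.pullback g).obj (Coh.structureModule Y))) := by
    haveI := Groth.L20.DescLocus.isIso_unit_structure f' h'
    have h := (Scheme.Modules.pullbackPushforwardAdjunction f').unit.naturality
      (Groth.L29.LocFree.pullbackUnitIso g).hom
    simp only [Functor.id_map] at h
    exact IsIso.of_isIso_fac_right h.symm
  haveI : Coh.IsQCoh ((Scheme.Modules.pullback f).obj (Coh.structureModule Y)) :=
    Groth.L21.Extend.isQCoh_of_isInvertible (Groth.L18.Ample.isInvertible_pullback f
      (Groth.L18.Ample.isInvertible_structureModule Y))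
  haveI := isIso_bc0_of_qs pb ((Scheme.Modules.pullback f).obj (Coh.structureModule Y))
  haveI : IsIso ((Scheme.Modules.pullback g).map
      ((Scheme.Modules.pullbackPushforwardAdjunction f).unit.app (Coh.structureModule Y))) :=
    IsIso.of_isIso_fac_right (Groth.L20.DescLocus.unit_bc0 f g f' g' pb.w (Coh.structureModule Y))
  haveI := Groth.L24.QCohDesc.isIso_of_pullback g
    ((Scheme.Modules.pullbackPushforwardAdjunction f).unit.app (Coh.structureModule Y)) inferInstance
  haveI : IsIso (ClSub.unitToPush f) := by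
    rw [← Groth.L20.DescLocus.unit_structure f]
    infer_instance
  exact Groth.L20.DescLocus.app_isIso_of_isIso_unitToPush f U

/-- Invertibility of direct images of invertible modules descends. -/
theorem isInvertible_push_descent (pb : IsPullback g' f' f g) [QuasiCompact f] [QuasiSeparated f] [Flat g]
    [Surjective g] [QuasiCompact g]
    (h' : ∀ L' : X'.Modules, PicF.IsInvertible L' → PicF.IsInvertible ((Scheme.Modules.pushforward f').obj L'))
    (L : X.Modules) (hL : PicF.IsInvertible L) : PicF.IsInvertible ((Scheme.Modules.pushforward f).obj L) := by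
  haveI := Groth.L21.Extend.isQCoh_of_isInvertible hL
  haveI := isIso_bc0_of_qs pb L
  haveI := Groth.L16.QcqsPush.isQCoh_push L f
  exact Groth.L03.ShStab.ExtTwistPn.isInvertible_of_rank_one
    (Groth.L02.Canon.isFinLocFreeOfRank_one_of_pullback g _
      (Groth.L18.Ample.isInvertible_of_iso (asIso (CohBC.bc0 f g f' g' pb.w L)).symm
        (h' _ (Groth.L18.Ample.isInvertible_pullback g' hL))))

open Groth.L14.ParaF Groth.L21.Extend in
/-- Parafactorial pairs descend along faithfully flat quasi-compact morphisms. -/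
theorem pair_descent (f : Y' ⟶ Y) [QuasiCompact f] [Flat f] [Surjective f] (Z : Closeds Y)
    (hU : QuasiCompact (Scheme.Opens.ι (Z.compl : Y.Opens))) (h : _root_.ParaF.IsParafactorialPair Y' (_root_.ParaF.closedsPreimage f Z)) :
    _root_.ParaF.IsParafactorialPair Y Z := by
  let U := Z.compl
  obtain ⟨hO, hE⟩ := (pair_iff _).1 h
  have key : ∀ V : Y.Opens,
      (∀ A : (V : Scheme.{u}).Opens, IsIso ((Y.homOfLE (inf_le_left : V ⊓ U ≤ V)).app A)) ∧
      ∀ L : ((V ⊓ U : Y.Opens) : Scheme.{u}).Modules, PicF.IsInvertible L →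
        PicF.IsInvertible ((Scheme.Modules.pushforward (Y.homOfLE (inf_le_left : V ⊓ U ≤ V))).obj L) := by
    intro V
    let j := Y.homOfLE (inf_le_left : V ⊓ U ≤ V)
    haveI : QuasiCompact j :=
      MorphismProperty.of_isPullback (P := @QuasiCompact) (isPullback_opens_inf V U).flip hU
    let j' := Y'.homOfLE (f.preimage_mono (inf_le_left : V ⊓ U ≤ V))
    have outer : IsPullback (j' ≫ (f ⁻¹ᵁ V).ι) (f ∣_ (V ⊓ U)) f (j ≫ V.ι) := by
      rw [Scheme.homOfLE_ι, Scheme.homOfLE_ι]
      exact (isPullback_morphismRestrict f (V ⊓ U)).flip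
    have pb : IsPullback (f ∣_ (V ⊓ U)) j' j (f ∣_ V) :=
      (IsPullback.of_right outer (morphismRestrict_homOfLE f _ _ _).symm
        (isPullback_morphismRestrict f V).flip).flip
    haveI : Flat (f ∣_ V) := MorphismProperty.of_isPullback (P := @Flat) (isPullback_morphismRestrict f V).flip inferInstance
    haveI : Surjective (f ∣_ V) := MorphismProperty.of_isPullback (P := @Surjective) (isPullback_morphismRestrict f V).flip inferInstance
    haveI : QuasiCompact (f ∣_ V) := MorphismProperty.of_isPullback (P := @QuasiCompact) (isPullback_morphismRestrict f V).flip inferInstance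
    refine ⟨isIso_app_descent pb fun A => ?_, fun L hL => isInvertible_push_descent pb (fun L' hL' => ?_) L hL⟩
    · rw [ConcreteCategory.isIso_iff_bijective, Scheme.homOfLE_app]
      have hle : (f ⁻¹ᵁ V).ι ''ᵁ A ≤ f ⁻¹ᵁ V := Scheme.Opens.ι_image_le _ _
      have h1 := (Bij.congr ((supportedOn_iff _ _).1 hO ((f ⁻¹ᵁ V).ι ''ᵁ A)) rfl
        (show _ = (f ⁻¹ᵁ (V ⊓ U)).ι ''ᵁ (j' ⁻¹ᵁ A) by
          rw [Scheme.ι_image_homOfLE_eq_ι_image_inf]
          exact le_antisymm (fun x hx => ⟨hx.1, hle hx.1, hx.2⟩) (fun x hx => ⟨hx.1, hx.2.2⟩))).2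
      exact h1
    · exact push_of_ext hE (f ⁻¹ᵁ V) L' hL'
  refine (pair_iff Z).2 ⟨(supportedOn_iff _ _).2 fun V => ?_, ext_of_push fun V L hL => (key V).2 L hL⟩
  have h1 := (key V).1 ⊤
  rw [ConcreteCategory.isIso_iff_bijective, Scheme.homOfLE_app] at h1
  have h2 : Bij (Coh.structureModule Y) (V.ι ''ᵁ ⊤)
      ((V ⊓ U).ι ''ᵁ (Y.homOfLE (inf_le_left : V ⊓ U ≤ V) ⁻¹ᵁ ⊤)) :=
    ⟨Y.ι_image_homOfLE_le_ι_image _ _, h1⟩
  exact h2.congr (Scheme.Opens.ι_image_top _) (by rw [Scheme.Hom.preimage_top, Scheme.Opens.ι_image_top])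

end Groth.L07.ParaF
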