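import Groth.Agent.L07.ParaF.Ascend
import Groth.Agent.L07.StalkNbhdSystem
import Groth.Agent.S4788
import Groth.Agent.S4792
import Groth.Agent.L18.LocFreeFP
import Groth.Agent.L12.FinCov.Frame
import Groth.Agent.L16.AffineBC.Pullback

/-!
Parafactoriality of a pair is a condition on the local rings.
-/

set_option autoImplicit false
set_option linter.style.haveILetI false
set_option linter.unusedSectionVars false
set_option backward.isDefEq.respectTransparency false
set_option backward.isDefEq.respectTransparency.types false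

universe u

open CategoryTheory CategoryTheory.Limits AlgebraicGeometry TopologicalSpace Opposite

noncomputable section

namespace Groth.L07.ParaF

open Groth.L14.ParaF Groth.L21.Extend

variable {X : Scheme.{u}}

/-- The punctured spectrum of the local ring at `y`. -/
abbrev punct (y : X) : (Spec (X.presheaf.stalk y)).Opens := FEt.puncturedSpec (X.presheaf.stalk y)

theorem fromSpecStalk_eq_iff (y : X) (z : Spec (X.presheaf.stalk y)) :
    X.fromSpecStalk y z = y ↔ z = IsLocalRing.closedPoint (X.presheaf.stalk y) := by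
  refine ⟨fun h => (X.fromSpecStalk y).isEmbedding.injective (h.trans Scheme.fromSpecStalk_closedPoint.symm), ?_⟩
  rintro rfl
  exact Scheme.fromSpecStalk_closedPoint

theorem mem_punct_iff (y : X) (z : Spec (X.presheaf.stalk y)) :
    z ∈ punct y ↔ X.fromSpecStalk y z ≠ y := by
  rw [ne_eq, fromSpecStalk_eq_iff]
  rfl

theorem fromSpecStalk_specializes (y : X) (z : Spec (X.presheaf.stalk y)) : X.fromSpecStalk y z ⤳ y :=
  (X.range_fromSpecStalk (x := y)).le ⟨z, rfl⟩

/-- Every point maximal outside `W` has the punctured spectrum as preimage of `W`. -/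
theorem preimage_eq_punct {y : X} {W : X.Opens} (hy : y ∉ W) (h : ∀ t : X, t ⤳ y → t ≠ y → t ∈ W) :
    X.fromSpecStalk y ⁻¹ᵁ W = punct y := by
  ext z
  refine ⟨fun hz => (mem_punct_iff y z).2 fun e => hy (e ▸ hz), fun hz => ?_⟩
  exact h _ (fromSpecStalk_specializes y z) ((mem_punct_iff y z).1 hz)

theorem preimage_le_punct {y : X} {W : X.Opens} (hy : y ∉ W) : X.fromSpecStalk y ⁻¹ᵁ W ≤ punct y :=
  fun z hz => (mem_punct_iff y z).2 fun e => hy (e ▸ hz)

theorem eq_top_of_mem {y : X} {V : X.Opens} (hy : y ∈ V) : X.fromSpecStalk y ⁻¹ᵁ V = ⊤ :=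
  top_unique fun z _ => (fromSpecStalk_specializes y z).mem_open V.2 hy

/-- Equal images in the spectrum of the local ring have equal germs at the generalisations. -/
theorem germ_eq_of_app_eq {y : X} {V : X.Opens} (a b : Γ(X, V)) (B : (Spec (X.presheaf.stalk y)).Opens)
    (hB : B ≤ X.fromSpecStalk y ⁻¹ᵁ V)
    (h : rO _ hB ((X.fromSpecStalk y).app V a) = rO _ hB ((X.fromSpecStalk y).app V b))
    (z : Spec (X.presheaf.stalk y)) (hz : z ∈ B) :
    X.presheaf.germ V (X.fromSpecStalk y z) (hB hz) a = X.presheaf.germ V (X.fromSpecStalk y z) (hB hz) b := by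
  haveI : Flat (X.fromSpecStalk y) := Groth.L05.Point.flat_fromSpecStalk y
  haveI := Groth.L11.REqHom.isIso_stalkMap_of_flat_preimmersion (X.fromSpecStalk y) z
  apply (ConcreteCategory.bijective_of_isIso ((X.fromSpecStalk y).stalkMap z)).1
  rw [Scheme.Hom.germ_stalkMap_apply, Scheme.Hom.germ_stalkMap_apply]
  have h2 := congrArg ((Spec (X.presheaf.stalk y)).presheaf.germ B z hz) h
  simpa only [TopCat.Presheaf.germ_res_apply] using h2

/-- The function given by a local parafactorial ring: restriction to the punctured spectrum is bijective. -/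
theorem bij_punct {y : X} (h : _root_.ParaF.IsParafactorialLocalRing (X.presheaf.stalk y)) :
    Bij (Coh.structureModule (Spec (X.presheaf.stalk y))) ⊤ (punct y) ∧
      _root_.ParaF.PicTrivial (punct y : Scheme.{u}) :=
  (isParafactorialLocalRing_iff' (A := ↑(X.presheaf.stalk y))).mp h

section FromStalks

variable [IsLocallyNoetherian X] {U : X.Opens}
  (hbp : ∀ y : X, y ∉ U → Bij (Coh.structureModule (Spec (X.presheaf.stalk y))) ⊤ (punct y))
include hbp

theorem injective_res (V : X.Opens) (a : Γ(X, V)) (h : rO X (inf_le_left : V ⊓ U ≤ V) a = 0) : a = 0 := by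
  let W0 : X.Opens := sSup {O | ∃ hO : O ≤ V, rO X hO a = 0}
  have hW0V : W0 ≤ V := sSup_le fun O hO => hO.1
  have h0 : rO X hW0V a = 0 := by
    refine eq_of_locally (Coh.structureModule X) _ _ fun t ht => ?_
    obtain ⟨O, hO, htO⟩ := Opens.mem_sSup.1 ht
    refine ⟨O, le_sSup hO, htO, ?_⟩
    show rO X _ (rO X hW0V a) = rO X _ 0
    rw [rO_rO, hO.2, rO, map_zero]
  suffices hle : V ≤ W0 by
    have := congrArg (rO X hle) h0
    rwa [rO_rO, show rO X (hle.trans hW0V) a = a from rs_self (Coh.structureModule X) a,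
      show rO X hle (0 : Γ(X, W0)) = 0 from map_zero _] at this
  by_contra hle
  obtain ⟨y₀, hy₀V, hy₀⟩ := SetLike.not_le_iff_exists.1 hle
  obtain ⟨y, hyV, hy, hmax⟩ := exists_maximal_point W0 V hy₀V hy₀
  have hUW : V ⊓ U ≤ W0 := le_sSup ⟨inf_le_left, h⟩
  have hyU : y ∉ U := fun hU => hy (hUW ⟨hyV, hU⟩)
  let φ := X.fromSpecStalk y
  have hP : punct y ≤ φ ⁻¹ᵁ W0 := (preimage_eq_punct hy hmax).ge
  obtain ⟨hPT, hbij⟩ := hbp y hyU
  have htop : (⊤ : (Spec (X.presheaf.stalk y)).Opens) ≤ φ ⁻¹ᵁ V := (eq_top_of_mem hyV).ge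
  have hzero : rO _ htop (φ.app V a) = rO _ htop (φ.app V 0) := by
    apply hbij.1
    show rO _ hPT (rO _ htop (φ.app V a)) = rO _ hPT (rO _ htop (φ.app V 0))
    have hnat : φ.app W0 (rO X hW0V a) = rO _ (φ.preimage_mono hW0V) (φ.app V a) :=
      congr($(φ.naturality (homOfLE hW0V).op) a)
    rw [h0, map_zero] at hnat
    have hz : rO _ hP (rO _ (φ.preimage_mono hW0V) (φ.app V a)) = 0 := by
      rw [← hnat]
      exact map_zero _
    rw [rO_rO] at hz
    rw [rO_rO, rO_rO, hz, map_zero]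
    exact (map_zero ((Spec (X.presheaf.stalk y)).presheaf.map (homOfLE (hPT.trans htop)).op).hom).symm
  have hg := germ_eq_of_app_eq a 0 ⊤ htop hzero (IsLocalRing.closedPoint _) trivial
  rw [map_zero] at hg
  obtain ⟨O, hO, i, j, hij⟩ := X.presheaf.germ_eq (X.fromSpecStalk y (IsLocalRing.closedPoint _))
    (htop trivial) (htop trivial) a 0 (by rw [map_zero]; exact hg)
  have hyO : y ∈ O := Scheme.fromSpecStalk_closedPoint (x := y) ▸ hO
  refine hy (Opens.mem_sSup.2 ⟨O, ⟨i.le, ?_⟩, hyO⟩)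
  exact hij.trans (map_zero _)

theorem res_inj (V : X.Opens) : Function.Injective fun a : Γ(X, V) => rO X (inf_le_left : V ⊓ U ≤ V) a := by
  intro a b hab
  exact sub_eq_zero.1 (injective_res hbp V (a - b)
    ((map_sub (X.presheaf.map (homOfLE (inf_le_left : V ⊓ U ≤ V)).op).hom a b).trans (sub_eq_zero.2 hab)))

theorem surjective_res (V : X.Opens) (r : Γ(X, V ⊓ U)) :
    ∃ a : Γ(X, V), rO X (inf_le_left : V ⊓ U ≤ V) a = r := by
  let S : Set X.Opens := {O | ∃ (hO : O ≤ V) (a : Γ(X, O)),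
    rO X (inf_le_left : O ⊓ U ≤ O) a = rO X (inf_le_inf_right U hO) r}
  have hSV : ∀ O : S, O.1 ≤ V := fun O => O.2.1
  choose hh a ha using fun O : S => O.2
  let W0 : X.Opens := sSup S
  have hW0V : W0 ≤ V := sSup_le fun O hO => hO.1
  obtain ⟨a0, ha0⟩ := exists_glue (Coh.structureModule X) (fun O : S => O.1) W0 (fun O => le_sSup O.2)
    (fun t ht => by obtain ⟨O, hO, htO⟩ := Opens.mem_sSup.1 ht; exact ⟨⟨O, hO⟩, htO⟩) a (fun O O' => by
      apply res_inj hbp
      show rO X _ (rO X _ (a O)) = rO X _ (rO X _ (a O'))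
      have h1 := congrArg (rO X (inf_le_inf_right U inf_le_left : (O.1 ⊓ O'.1) ⊓ U ≤ O.1 ⊓ U)) (ha O)
      have h2 := congrArg (rO X (inf_le_inf_right U inf_le_right : (O.1 ⊓ O'.1) ⊓ U ≤ O'.1 ⊓ U)) (ha O')
      simp only [rO_rO] at h1 h2 ⊢
      exact h1.trans h2.symm)
  have ha0' : rO X (inf_le_left : W0 ⊓ U ≤ W0) a0 = rO X (inf_le_inf_right U hW0V) r := by
    refine eq_of_locally (Coh.structureModule X) _ _ fun t ht => ?_
    obtain ⟨O, hO, htO⟩ := Opens.mem_sSup.1 ht.1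
    refine ⟨O ⊓ U, inf_le_inf_right U (le_sSup hO), ⟨htO, ht.2⟩, ?_⟩
    show rO X _ (rO X _ a0) = rO X _ (rO X _ r)
    have h1 : rO X (le_sSup hO) a0 = a ⟨O, hO⟩ := ha0 ⟨O, hO⟩
    have h2 := ha ⟨O, hO⟩
    rw [← h1] at h2
    simpa only [rO_rO] using h2
  suffices hle : V ≤ W0 by
    refine ⟨rO X hle a0, ?_⟩
    have := congrArg (rO X (inf_le_inf_right U hle)) ha0'
    simp only [rO_rO] at this ⊢
    exact this.trans (rs_self (Coh.structureModule X) r)
  by_contra hle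
  obtain ⟨y₀, hy₀V, hy₀⟩ := SetLike.not_le_iff_exists.1 hle
  obtain ⟨y, hyV, hy, hmax⟩ := exists_maximal_point W0 V hy₀V hy₀
  have hUS : V ⊓ U ∈ S := by
    refine ⟨inf_le_left, r, ?_⟩
    rfl
  have hyU : y ∉ U := fun hU => hy ((le_sSup hUS : V ⊓ U ≤ W0) ⟨hyV, hU⟩)
  let φ := X.fromSpecStalk y
  have hP : punct y ≤ φ ⁻¹ᵁ W0 := (preimage_eq_punct hy hmax).ge
  obtain ⟨hPT, hbij⟩ := hbp y hyU
  obtain ⟨b, hb⟩ := hbij.2 (rO _ hP (φ.app W0 a0))
  let q := IsLocalRing.closedPoint (X.presheaf.stalk y)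
  haveI : Flat φ := Groth.L05.Point.flat_fromSpecStalk y
  haveI := Groth.L11.REqHom.isIso_stalkMap_of_flat_preimmersion φ q
  obtain ⟨c, hc⟩ := (ConcreteCategory.bijective_of_isIso (φ.stalkMap q)).2
    ((Spec (X.presheaf.stalk y)).presheaf.germ ⊤ q trivial b)
  obtain ⟨N, hqN, ã, rfl⟩ := X.presheaf.exists_germ_eq c
  have hyN : y ∈ N := Scheme.fromSpecStalk_closedPoint (x := y) ▸ hqN
  rw [Scheme.Hom.germ_stalkMap_apply] at hc
  obtain ⟨B, hqB, i, j, hB⟩ := (Spec (X.presheaf.stalk y)).presheaf.germ_eq q hqN (show q ∈ (⊤ : (Spec (X.presheaf.stalk y)).Opens) from trivial) _ b hc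
  have hBtop : B = ⊤ :=
    top_unique fun z _ => (IsLocalRing.specializes_closedPoint z).mem_open B.2 hqB
  subst hBtop
  -- the opens where the two extensions agree
  let Z0 : X.Opens := sSup {O | ∃ h : O ≤ N ⊓ W0, rO X (h.trans inf_le_left) ã = rO X (h.trans inf_le_right) a0}
  obtain ⟨N', hyN', hdis⟩ := exists_nhd_disjoint (N ⊓ W0) (Z0 : Set X)ᶜ Z0.isOpen.isClosed_compl y
    (fun t ht htZ hty => by
      obtain ⟨z, rfl⟩ := (X.range_fromSpecStalk (x := y)).ge hty
      have hzP : z ∈ punct y := preimage_le_punct hy ht.2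
      have hle : punct y ⊓ φ ⁻¹ᵁ (N ⊓ W0) ≤ φ ⁻¹ᵁ (N ⊓ W0) := inf_le_right
      have hnat1 : φ.app (N ⊓ W0) (rO X inf_le_left ã) = rO _ (φ.preimage_mono inf_le_left) (φ.app N ã) :=
        congr($(φ.naturality (homOfLE (inf_le_left : N ⊓ W0 ≤ N)).op) ã)
      have hnat2 : φ.app (N ⊓ W0) (rO X inf_le_right a0) = rO _ (φ.preimage_mono inf_le_right) (φ.app W0 a0) :=
        congr($(φ.naturality (homOfLE (inf_le_right : N ⊓ W0 ≤ W0)).op) a0)
      have heq : rO _ hle (φ.app _ (rO X inf_le_left ã)) = rO _ hle (φ.app _ (rO X inf_le_right a0)) := by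
        rw [hnat1, hnat2]
        have h1 := congrArg (rO _ (le_top : punct y ⊓ φ ⁻¹ᵁ (N ⊓ W0) ≤ ⊤)) hB
        have h2 := congrArg (rO _ (inf_le_left : punct y ⊓ φ ⁻¹ᵁ (N ⊓ W0) ≤ punct y)) hb
        change rO _ le_top (rO _ i.le _) = rO _ le_top (rO _ j.le b) at h1
        change rO _ inf_le_left (rO _ hPT b) = _ at h2
        simp only [rO_rO] at h1 h2 ⊢
        exact h1.trans h2
      have hg := germ_eq_of_app_eq _ _ _ hle heq z ⟨hzP, ht⟩
      rw [TopCat.Presheaf.germ_res_apply, TopCat.Presheaf.germ_res_apply] at hg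
      obtain ⟨O, hzO, i', j', hij⟩ := X.presheaf.germ_eq _ ht.1 ht.2 ã a0 hg
      exact htZ (Opens.mem_sSup.2 ⟨O, ⟨le_inf i'.le j'.le, hij⟩, hzO⟩))
  refine hy (Opens.mem_sSup.2 ⟨(N ⊓ N') ⊓ V, ?_, ⟨⟨hyN, hyN'⟩, hyV⟩⟩)
  refine ⟨inf_le_right, rO X (inf_le_left.trans inf_le_left) ã,
    eq_of_locally (Coh.structureModule X) _ _ fun t ht => ?_⟩
  have htW : t ∈ W0 := le_sSup hUS ⟨ht.1.2, ht.2⟩
  have htZ : t ∈ Z0 := not_not.1 (hdis t ht.1.1.2 ⟨ht.1.1.1, htW⟩)
  obtain ⟨O, ⟨hO, hOeq⟩, htO⟩ := Opens.mem_sSup.1 htZ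
  refine ⟨O ⊓ (((N ⊓ N') ⊓ V) ⊓ U), inf_le_right, ⟨htO, ht⟩, ?_⟩
  show rO X _ (rO X _ (rO X _ ã)) = rO X _ (rO X _ r)
  have h1 := congrArg (rO X (inf_le_left : O ⊓ (((N ⊓ N') ⊓ V) ⊓ U) ≤ O)) hOeq
  have h2 := congrArg (rO X ((le_inf ((inf_le_left.trans hO).trans inf_le_right) (inf_le_right.trans inf_le_right)) :
    O ⊓ (((N ⊓ N') ⊓ V) ⊓ U) ≤ W0 ⊓ U)) ha0'
  simp only [rO_rO] at h1 h2 ⊢
  exact h1.trans h2

theorem supportedOn_of_bij_punct : SupportedOn (Coh.structureModule X) U :=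
  fun V => ⟨res_inj hbp V, fun r => surjective_res hbp V r⟩

omit hbp in
theorem supportedOn_of_stalks (hpf : ∀ y : X, y ∉ U → _root_.ParaF.IsParafactorialLocalRing (X.presheaf.stalk y)) :
    SupportedOn (Coh.structureModule X) U :=
  supportedOn_of_bij_punct fun y hy => (bij_punct (hpf y hy)).1

end FromStalks

end Groth.L07.ParaF
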