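import Groth.Agent.L07.ParaF.FlatDescent
import Groth.Agent.L05.Point.UnramFlat
import Groth.Agent.L11.REq.FibreExtend
import Mathlib.AlgebraicGeometry.Noetherian

/-!
Flat ascent of `f_* O = O`, maximal points of closed sets, and separation from locally closed sets.
-/

set_option autoImplicit false
set_option linter.style.haveILetI false
set_option backward.isDefEq.respectTransparency false
set_option backward.isDefEq.respectTransparency.types false

universe u

open CategoryTheory CategoryTheory.Limits AlgebraicGeometry TopologicalSpace Opposite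

noncomputable section

namespace Groth.L07.ParaF

section Topology

/-- A point outside an open set `W` has a generalisation outside `W` which is maximal with that property. -/
theorem exists_maximal_point {X : Scheme.{u}} (W : X.Opens) (V : X.Opens) {y₀ : X} (h0 : y₀ ∈ V) (h1 : y₀ ∉ W) :
    ∃ y : X, y ∈ V ∧ y ∉ W ∧ ∀ t : X, t ⤳ y → t ≠ y → t ∈ W := by
  have hCc : IsClosed ((W : Set X)ᶜ) := W.isOpen.isClosed_compl
  let C : Set X := (W : Set X)ᶜ
  let z : C := ⟨y₀, h1⟩
  have hZi : IsIrreducible (Subtype.val '' irreducibleComponent z) :=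
    isIrreducible_irreducibleComponent.image _ continuous_subtype_val.continuousOn
  have hZc : IsClosed (Subtype.val '' irreducibleComponent z) :=
    hCc.isClosedEmbedding_subtypeVal.isClosedMap _ isClosed_irreducibleComponent
  obtain ⟨q, hq⟩ := QuasiSober.sober hZi hZc
  have hqz : q ⤳ y₀ := hq.specializes ⟨z, mem_irreducibleComponent, rfl⟩
  obtain ⟨q', hq'Z, hq'q⟩ := hq.mem
  refine ⟨q, hqz.mem_open V.2 h0, hq'q ▸ q'.2, fun t htq hne => ?_⟩
  by_contra htW
  have hsub : irreducibleComponent z ⊆ closure ({(⟨t, htW⟩ : C)} : Set C) := by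
    intro w hw
    rw [closure_subtype, Set.image_singleton]
    exact specializes_iff_mem_closure.1 (htq.trans (hq.specializes ⟨w, hw, rfl⟩))
  have heq := eq_irreducibleComponent (x := z) isIrreducible_singleton.closure.isPreirreducible hsub
  have hqt : q ⤳ t := hq.specializes ⟨⟨t, htW⟩, heq ▸ subset_closure rfl, rfl⟩
  exact hne (htq.antisymm hqt).eq

/-- In a Noetherian sober space a locally closed set without generalisations of a point avoids a
neighbourhood of it. -/
theorem exists_specializes_of_mem_closure_inter {T : Type*} [TopologicalSpace T] [NoetherianSpace T]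
    [QuasiSober T] (O C : Set T) (hO : IsOpen O) (hC : IsClosed C) {x : T} (hx : x ∈ closure (O ∩ C)) :
    ∃ q ∈ O ∩ C, q ⤳ x := by
  obtain ⟨S, hSf, hSc, hSi, hSU⟩ := NoetherianSpace.exists_finite_set_isClosed_irreducible
    (isClosed_closure (s := O ∩ C))
  let S' : Set (Set T) := {Z | Z ∈ S ∧ ((O ∩ C) ∩ Z).Nonempty}
  have hsub : O ∩ C ⊆ ⋃₀ S' := fun y hy => by
    obtain ⟨Z, hZ, hyZ⟩ := Set.mem_sUnion.mp (hSU ▸ subset_closure hy)
    exact ⟨Z, ⟨hZ, y, hy, hyZ⟩, hyZ⟩
  have hcl : IsClosed (⋃₀ S') :=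
    Set.sUnion_eq_biUnion ▸ (hSf.subset fun Z (hZ : Z ∈ S') => hZ.1).isClosed_biUnion
      (fun Z (hZ : Z ∈ S') => hSc Z hZ.1)
  obtain ⟨Z, ⟨hZS, y, hy, hyZ⟩, hxZ⟩ := Set.mem_sUnion.mp (hcl.closure_subset (closure_mono hsub hx))
  obtain ⟨q, hq⟩ := QuasiSober.sober (hSi Z hZS) (hSc Z hZS)
  refine ⟨q, ⟨(hq.specializes hyZ).mem_open hO hy.1, ?_⟩, hq.specializes hxZ⟩
  have hqc : q ∈ closure (O ∩ C) := hSU ▸ Set.mem_sUnion.2 ⟨Z, hZS, hq.mem⟩
  exact hC.closure_subset (closure_mono Set.inter_subset_right hqc)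

/-- On a locally Noetherian scheme a locally closed set containing no generalisation of `y` is disjoint
from a neighbourhood of `y`. -/
theorem exists_nhd_disjoint {X : Scheme.{u}} [IsLocallyNoetherian X] (O : X.Opens) (C : Set X)
    (hC : IsClosed C) (y : X) (h : ∀ t ∈ O, t ∈ C → ¬ t ⤳ y) :
    ∃ N : X.Opens, y ∈ N ∧ ∀ t ∈ N, t ∈ O → t ∉ C := by
  obtain ⟨W, hW, hyW, -⟩ := exists_isAffineOpen_mem_and_subset (x := y) (U := (⊤ : X.Opens)) trivial
  haveI : IsAffine W.toScheme := hW
  haveI : IsLocallyNoetherian W.toScheme := isLocallyNoetherian_of_isOpenImmersion W.ι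
  haveI : IsNoetherian W.toScheme := { }
  have hy : y ∉ closure ((W : Set X) ∩ ((O : Set X) ∩ C)) := by
    intro hmem
    have h' : (⟨y, hyW⟩ : W.toScheme) ∈ closure ((W.ι ⁻¹' (O : Set X)) ∩ (W.ι ⁻¹' C)) := by
      rw [← Set.preimage_inter, ← W.ι.isOpenEmbedding.isOpenMap.preimage_closure_eq_closure_preimage W.ι.continuous]
      exact closure_mono Set.inter_subset_right hmem
    obtain ⟨q, ⟨hqO, hqC⟩, hq⟩ :=
      exists_specializes_of_mem_closure_inter _ _ (O.2.preimage W.ι.continuous) (hC.preimage W.ι.continuous) h'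
    exact h (W.ι q) hqO hqC (hq.map W.ι.continuous)
  refine ⟨W ⊓ ⟨(closure ((W : Set X) ∩ ((O : Set X) ∩ C)))ᶜ, isClosed_closure.isOpen_compl⟩, ⟨hyW, hy⟩, ?_⟩
  rintro t ⟨htW, ht⟩ htO htC
  exact ht (subset_closure ⟨htW, htO, htC⟩)

end Topology

variable {X Y X' Y' : Scheme.{u}} {f : X ⟶ Y} {g : Y' ⟶ Y} {g' : X' ⟶ X} {f' : X' ⟶ Y'}

/-- `f_* O = O` ascends along flat morphisms. -/
theorem isIso_app_ascent (pb : IsPullback g' f' f g) [QuasiCompact f] [QuasiSeparated f] [Flat g]
    (h : ∀ U : Y.Opens, IsIso (f.app U)) (U : Y'.Opens) : IsIso (f'.app U) := by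
  haveI := Groth.L20.DescLocus.isIso_unit_structure f h
  haveI : Coh.IsQCoh ((Scheme.Modules.pullback f).obj (Coh.structureModule Y)) :=
    Groth.L21.Extend.isQCoh_of_isInvertible (Groth.L18.Ample.isInvertible_pullback f
      (Groth.L18.Ample.isInvertible_structureModule Y))
  haveI := isIso_bc0_of_qs pb ((Scheme.Modules.pullback f).obj (Coh.structureModule Y))
  haveI : IsIso ((Scheme.Modules.pullbackPushforwardAdjunction f').unit.app
      ((Scheme.Modules.pullback g).obj (Coh.structureModule Y))) := by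
    rw [← Groth.L20.DescLocus.unit_bc0 f g f' g' pb.w (Coh.structureModule Y)]
    infer_instance
  haveI : IsIso ((Scheme.Modules.pullbackPushforwardAdjunction f').unit.app (Coh.structureModule Y')) := by
    have h := (Scheme.Modules.pullbackPushforwardAdjunction f').unit.naturality
      (Groth.L29.LocFree.pullbackUnitIso g).hom
    simp only [Functor.id_map] at h
    exact IsIso.of_isIso_fac_left h
  haveI : IsIso (ClSub.unitToPush f') := by
    rw [← Groth.L20.DescLocus.unit_structure f']
    infer_instance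
  exact Groth.L20.DescLocus.app_isIso_of_isIso_unitToPush f' U

open Groth.L14.ParaF Groth.L21.Extend in
/-- Being supported on an open, through the inclusion. -/
theorem supportedOn_iff_isIso_app (U : X.Opens) :
    SupportedOn (Coh.structureModule X) U ↔ ∀ V : X.Opens, IsIso (U.ι.app V) := by
  have key : ∀ V : X.Opens, IsIso (U.ι.app V) ↔ Bij (Coh.structureModule X) V (V ⊓ U) := fun V => by
    have he : U.ι ''ᵁ (U.ι ⁻¹ᵁ V) = V ⊓ U := by
      rw [Scheme.Hom.image_preimage_eq_opensRange_inf, Scheme.Opens.opensRange_ι, inf_comm]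
    rw [ConcreteCategory.isIso_iff_bijective, Scheme.Opens.ι_app]
    refine ⟨fun hb => ?_, fun hb => (hb.congr rfl he.symm).2⟩
    exact (show Bij (Coh.structureModule X) V (U.ι ''ᵁ (U.ι ⁻¹ᵁ V)) from ⟨U.ι.image_preimage_le V, hb⟩).congr rfl he
  rw [supportedOn_iff]
  exact forall_congr' fun V => (key V).symm

open Groth.L21.Extend in
/-- Being supported on an open ascends along flat morphisms to a locally Noetherian target. -/
theorem supportedOn_ascent [IsLocallyNoetherian Y] (g : Y' ⟶ Y) [Flat g] (U : Y.Opens)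
    (h : SupportedOn (Coh.structureModule Y) U) : SupportedOn (Coh.structureModule Y') (g ⁻¹ᵁ U) := by
  rw [supportedOn_iff_isIso_app] at h ⊢
  exact fun V => isIso_app_ascent (isPullback_morphismRestrict g U) h V

end Groth.L07.ParaF
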