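import Groth.Agent.L07.ParaF.Stalks
import Groth.Agent.L07.StalkNbhdSystem
import Groth.Agent.S4788
import Groth.Agent.S4792
import Groth.Agent.L18.LocFreeFP
import Groth.Agent.L12.FinCov.Frame
import Groth.Agent.L03.ShStab.ExtTwistPn

/-!
Invertible modules on the base change to a local ring extend; parafactoriality passes to local rings.
-/

set_option autoImplicit false
set_option linter.style.haveILetI false
set_option linter.unusedSectionVars false
set_option backward.isDefEq.respectTransparency false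
set_option backward.isDefEq.respectTransparency.types false

universe u

open CategoryTheory CategoryTheory.Limits AlgebraicGeometry TopologicalSpace Opposite

noncomputable section

namespace Groth.L07.ParaF

open Groth.L14.ParaF Groth.L21.Extend

/-- An invertible module on the base change to a local ring extends to a neighbourhood. -/
theorem exists_invertible_extension {X S : Scheme.{u}} (f : X ⟶ S) [QuasiCompact f] [QuasiSeparated f] (s : S)
    (L : (pullback f (S.fromSpecStalk s)).Modules) (hL : PicF.IsInvertible L) :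
    ∃ (V : S.Opens) (_ : s ∈ V) (L' : (↑(f ⁻¹ᵁ V) : Scheme.{u}).Modules), PicF.IsInvertible L' ∧
      ∀ (ι : pullback f (S.fromSpecStalk s) ⟶ ↑(f ⁻¹ᵁ V)),
        ι ≫ (f ⁻¹ᵁ V).ι = pullback.fst f (S.fromSpecStalk s) →
        Nonempty ((Scheme.Modules.pullback ι).obj L' ≅ L) := by
  obtain ⟨σ⟩ := Groth.L07.StalkNbhdSystem.nonempty_system f s
  haveI := σ.affine
  haveI := IsCofiltered.nonempty (C := σ.I)
  let i₀ : σ.I := Classical.arbitrary σ.I
  haveI := σ.compact i₀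
  haveI := σ.qs i₀
  haveI := Groth.L21.Extend.isQCoh_of_isInvertible (Groth.L18.Ample.isInvertible_pullback σ.e.inv hL)
  have hrk := Groth.L12.FinCov.isFinLocFreeOfRank_one_of_isInvertible
    (Groth.L18.Ample.isInvertible_pullback σ.e.inv hL)
  have hfp := Groth.L18.LFP.isFP_of_isFinLocFree _ (fun x => by
    obtain ⟨U, hx, hU⟩ := hrk x
    exact ⟨U, 1, hx, hU⟩)
  obtain ⟨j, -, Fj, hjq, hjfp, ⟨ej⟩⟩ :=
    Groth.Agent.S4788.result σ.D σ.c σ.isLimit i₀ ((Scheme.Modules.pullback σ.e.inv).obj L) hfp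
  haveI := hjq
  haveI := σ.compact j
  have hrk' : FlatMod.IsFinLocFreeOfRank 1 ((Scheme.Modules.pullback (σ.c.π.app j)).obj Fj) :=
    Groth.L12.FinCov.isFinLocFreeOfRank_one_of_isInvertible
      (Groth.L18.Ample.isInvertible_of_iso ej.symm (Groth.L18.Ample.isInvertible_pullback σ.e.inv hL))
  obtain ⟨k, φ, hk⟩ := (Groth.Agent.S4792.result σ.D σ.c σ.isLimit j Fj hjfp 1).mp hrk'
  have hinv := Groth.L03.ShStab.ExtTwistPn.isInvertible_of_rank_one hk
  haveI := σ.isOpenImmersion k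
  let θ : σ.D.obj k ≅ ↑(f ⁻¹ᵁ σ.V k) :=
    IsOpenImmersion.isoOfRangeEq (σ.a k) (f ⁻¹ᵁ σ.V k).ι (by rw [σ.range_a k, Scheme.Opens.range_ι]; rfl)
  refine ⟨σ.V k, σ.mem k, (Scheme.Modules.pullback θ.inv).obj ((Scheme.Modules.pullback (σ.D.map φ)).obj Fj),
    Groth.L18.Ample.isInvertible_pullback θ.inv hinv, fun ι hι => ?_⟩
  have hι' : ι = σ.e.hom ≫ σ.c.π.app k ≫ θ.hom := by
    rw [← cancel_mono (f ⁻¹ᵁ σ.V k).ι, hι, Category.assoc, Category.assoc,
      IsOpenImmersion.isoOfRangeEq_hom_fac, σ.π_a]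
  have hcomp : ι ≫ θ.inv ≫ σ.D.map φ = σ.e.hom ≫ σ.c.π.app j := by
    rw [hι', Category.assoc, Category.assoc, θ.hom_inv_id_assoc, σ.c.w]
  exact ⟨(Scheme.Modules.pullback ι).mapIso ((Scheme.Modules.pullbackComp θ.inv (σ.D.map φ)).app Fj) ≪≫
    (Scheme.Modules.pullbackComp ι (θ.inv ≫ σ.D.map φ)).app Fj ≪≫
    (Scheme.Modules.pullbackCongr hcomp).app Fj ≪≫
    ((Scheme.Modules.pullbackComp σ.e.hom (σ.c.π.app j)).app Fj).symm ≪≫
    (Scheme.Modules.pullback σ.e.hom).mapIso ej ≪≫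
    (Scheme.Modules.pullbackComp σ.e.hom σ.e.inv).app L ≪≫
    (Scheme.Modules.pullbackCongr σ.e.hom_inv_id).app L ≪≫
    (Scheme.Modules.pullbackId _).app L⟩

variable {X : Scheme.{u}}

/-- An invertible module on the spectrum of a local ring is trivial. -/
theorem trivial_of_local {A : Type u} [CommRing A] [IsLocalRing A] (M : (Spec (CommRingCat.of A)).Modules)
    (hM : PicF.IsInvertible M) : Nonempty (M ≅ Coh.structureModule (Spec (CommRingCat.of A))) := by
  obtain ⟨U, hU, ⟨φ⟩⟩ := hM (IsLocalRing.closedPoint A)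
  have htop : U = ⊤ := top_unique fun z _ => (IsLocalRing.specializes_closedPoint z).mem_open U.2 hU
  subst htop
  let k := (Spec (CommRingCat.of A)).topIso.inv
  have hk : k ≫ (⊤ : (Spec (CommRingCat.of A)).Opens).ι = 𝟙 _ := by
    rw [← Scheme.topIso_hom]
    exact Iso.inv_hom_id _
  exact ⟨((Scheme.Modules.pullbackId _).app M).symm ≪≫ (Scheme.Modules.pullbackCongr hk).symm.app M ≪≫
    ((Scheme.Modules.pullbackComp k _).app M).symm ≪≫
    (Scheme.Modules.pullback k).mapIso (((Scheme.Modules.restrictFunctorIsoPullback _).app M).symm ≪≫ φ) ≪≫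
    Groth.L29.LocFree.pullbackUnitIso k⟩

/-- The local rings of a parafactorial pair along the closed set are parafactorial. -/
theorem stalk_of_pair [IsLocallyNoetherian X] (Z : Closeds X) (h : _root_.ParaF.IsParafactorialPair X Z)
    (y : X) (hy : y ∈ Z) : _root_.ParaF.IsParafactorialLocalRing (X.presheaf.stalk y) := by
  obtain ⟨hO, hE⟩ := (pair_iff Z).1 h
  let U := Z.compl
  let S := Spec (X.presheaf.stalk y)
  let φ : S ⟶ X := X.fromSpecStalk y
  haveI : Flat φ := Groth.L05.Point.flat_fromSpecStalk y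
  let U' : S.Opens := φ ⁻¹ᵁ U
  have hyU : y ∉ U := fun h' => h' hy
  have hle : U' ≤ punct y := preimage_le_punct hyU
  have hOS : ∀ A : S.Opens, Bij (Coh.structureModule S) A (A ⊓ U') :=
    (supportedOn_iff _ _).1 (supportedOn_ascent φ U hO)
  have hbij : Bij (Coh.structureModule S) ⊤ (punct y) := bij_of_le hOS le_top (by rwa [top_inf_eq])
  refine (isParafactorialLocalRing_iff' (A := ↑(X.presheaf.stalk y))).mpr ⟨hbij, fun L hL => ?_⟩
  let k : (U' : Scheme.{u}) ⟶ (punct y : Scheme.{u}) := S.homOfLE hle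
  let L₁ := (Scheme.Modules.pullback k).obj L
  let e := (IsPullback.of_hasPullback (Scheme.Opens.ι (U : X.Opens)) φ)
  let θ : (U' : Scheme.{u}) ≅ pullback (Scheme.Opens.ι (U : X.Opens)) φ := (isPullback_morphismRestrict φ U).isoPullback
  obtain ⟨V, hyV, L', hL', hι⟩ := exists_invertible_extension (Scheme.Opens.ι (U : X.Opens)) y
    ((Scheme.Modules.pullback θ.inv).obj L₁)
    (Groth.L18.Ample.isInvertible_pullback θ.inv (Groth.L18.Ample.isInvertible_pullback k hL))
  let j := X.homOfLE (inf_le_left : V ⊓ U ≤ V)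
  let ν : ((V ⊓ U : X.Opens) : Scheme.{u}) ≅ ((Scheme.Opens.ι U) ⁻¹ᵁ V : (U : Scheme.{u}).Opens).toScheme :=
    IsOpenImmersion.isoOfRangeEq (V ⊓ U).ι (((Scheme.Opens.ι U) ⁻¹ᵁ V).ι ≫ Scheme.Opens.ι U) (by
      rw [Scheme.Opens.range_ι, Scheme.Hom.comp_base, TopCat.coe_comp, Set.range_comp, Scheme.Opens.range_ι]
      exact congrArg SetLike.coe (show (Scheme.Opens.ι U) ''ᵁ ((Scheme.Opens.ι U) ⁻¹ᵁ V) = V ⊓ U by
        rw [Scheme.Hom.image_preimage_eq_opensRange_inf, Scheme.Opens.opensRange_ι, inf_comm]).symm)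
  obtain ⟨M₁, hM₁, ⟨eM⟩⟩ := (h V).2 ((Scheme.Modules.pullback ν.hom).obj L')
    (Groth.L18.Ample.isInvertible_pullback _ hL')
  let r : S ⟶ (V : Scheme.{u}) := IsOpenImmersion.lift V.ι φ (by
    rw [Scheme.Opens.range_ι]
    rintro _ ⟨z, rfl⟩
    exact (fromSpecStalk_specializes y z).mem_open V.2 hyV)
  have hr : r ≫ V.ι = φ := IsOpenImmersion.lift_fac _ _ _
  let M₂ := (Scheme.Modules.pullback (punct y).ι).obj ((Scheme.Modules.pullback r).obj M₁)
  obtain ⟨t⟩ := trivial_of_local (A := ↑(X.presheaf.stalk y)) _ (Groth.L18.Ample.isInvertible_pullback r hM₁)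
  let eM₂ : M₂ ≅ Coh.structureModule (punct y : Scheme.{u}) :=
    (Scheme.Modules.pullback (punct y).ι).mapIso t ≪≫ Groth.L29.LocFree.pullbackUnitIso _
  let w : (U' : Scheme.{u}) ⟶ ((V ⊓ U : X.Opens) : Scheme.{u}) := IsOpenImmersion.lift (V ⊓ U).ι (U'.ι ≫ φ) (by
    rw [Scheme.Opens.range_ι]
    rintro _ ⟨z, rfl⟩
    exact ⟨(fromSpecStalk_specializes y _).mem_open V.2 hyV, z.2⟩)
  have hw : w ≫ (V ⊓ U).ι = U'.ι ≫ φ := IsOpenImmersion.lift_fac _ _ _
  have hwj : w ≫ j = k ≫ (punct y).ι ≫ r := by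
    rw [← cancel_mono V.ι, Category.assoc, Scheme.homOfLE_ι, hw, Category.assoc, Category.assoc, hr,
      Scheme.homOfLE_ι_assoc]
  have hν : ν.hom ≫ ((Scheme.Opens.ι U) ⁻¹ᵁ V).ι ≫ Scheme.Opens.ι U = (V ⊓ U).ι :=
    IsOpenImmersion.isoOfRangeEq_hom_fac _ _ _
  obtain ⟨eι⟩ := hι (θ.inv ≫ w ≫ ν.hom) (by
    rw [← cancel_mono (Scheme.Opens.ι U)]
    simp only [Category.assoc, hν, hw]
    rw [pullback.condition, Iso.inv_comp_eq, IsPullback.isoPullback_hom_snd_assoc])
  let e₁ : (Scheme.Modules.pullback k).obj M₂ ≅ L₁ :=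
    ((Scheme.Modules.pullback k).mapIso ((Scheme.Modules.pullbackComp (punct y).ι r).app M₁)) ≪≫
    (Scheme.Modules.pullbackComp k ((punct y).ι ≫ r)).app M₁ ≪≫
    (Scheme.Modules.pullbackCongr hwj).symm.app M₁ ≪≫
    ((Scheme.Modules.pullbackComp w j).app M₁).symm ≪≫
    (Scheme.Modules.pullback w).mapIso (((Scheme.Modules.restrictFunctorIsoPullback j).app M₁).symm ≪≫ eM) ≪≫
    (Scheme.Modules.pullbackComp w ν.hom).app L' ≪≫
    (Scheme.Modules.pullbackCongr (θ.hom_inv_id_assoc (w ≫ ν.hom))).symm.app L' ≪≫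
    ((Scheme.Modules.pullbackComp θ.hom (θ.inv ≫ w ≫ ν.hom)).app L').symm ≪≫
    (Scheme.Modules.pullback θ.hom).mapIso eι ≪≫
    (Scheme.Modules.pullbackComp θ.hom θ.inv).app L₁ ≪≫
    (Scheme.Modules.pullbackCongr θ.hom_inv_id).app L₁ ≪≫
    (Scheme.Modules.pullbackId _).app L₁
  let e₀ : M₂.restrict k ≅ L.restrict k :=
    (Scheme.Modules.restrictFunctorIsoPullback k).app M₂ ≪≫ e₁ ≪≫
      ((Scheme.Modules.restrictFunctorIsoPullback k).app L).symm
  have hsupp : SupportedOn (Coh.structureModule (punct y : Scheme.{u})) k.opensRange := by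
    rw [opensRange_homOfLE]
    exact supportedOn_structureModule_restrict (punct y).ι ((supportedOn_iff _ _).2 hOS)
  have hM₂ : PicF.IsInvertible M₂ :=
    Groth.L18.Ample.isInvertible_pullback _ (Groth.L18.Ample.isInvertible_pullback r hM₁)
  obtain ⟨a, ha⟩ := (restrict_hom_bijective k hsupp M₂ L hL).2 e₀.hom
  obtain ⟨b, hb⟩ := (restrict_hom_bijective k hsupp L M₂ hM₂).2 e₀.inv
  have hab : a ≫ b = 𝟙 _ := (restrict_hom_bijective k hsupp M₂ M₂ hM₂).1 (by
    simp only [Functor.map_comp] at ha hb ⊢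
    rw [ha, hb, e₀.hom_inv_id, CategoryTheory.Functor.map_id])
  have hba : b ≫ a = 𝟙 _ := (restrict_hom_bijective k hsupp L L hL).1 (by
    simp only [Functor.map_comp] at ha hb ⊢
    rw [ha, hb, e₀.inv_hom_id, CategoryTheory.Functor.map_id])
  exact ⟨(Iso.mk a b hab hba).symm ≪≫ eM₂⟩

end Groth.L07.ParaF
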