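import Groth.Agent.L07.ParaF.Stalks

/-!
Parafactoriality of a pair is a condition on the local rings: invertible modules.
-/

set_option autoImplicit false
set_option linter.style.haveILetI false
set_option linter.unusedSectionVars false
set_option backward.isDefEq.respectTransparency false
set_option backward.isDefEq.respectTransparency.types false

universe u

open CategoryTheory CategoryTheory.Limits AlgebraicGeometry TopologicalSpace Opposite

noncomputable section

namespace Groth.L07.ParaF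

open Groth.L14.ParaF Groth.L21.Extend

variable {X : Scheme.{u}} [IsLocallyNoetherian X]

theorem supportedOn_punct {y : X} (h : _root_.ParaF.IsParafactorialLocalRing (X.presheaf.stalk y)) :
    SupportedOn (Coh.structureModule (Spec (X.presheaf.stalk y))) (punct y) := by
  refine (supportedOn_iff _ _).2 fun A => ?_
  by_cases hA : IsLocalRing.closedPoint (X.presheaf.stalk y) ∈ A
  · have hAtop : A = ⊤ := top_unique fun z _ => (IsLocalRing.specializes_closedPoint z).mem_open A.2 hA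
    exact (bij_punct h).1.congr hAtop.symm (by rw [hAtop, top_inf_eq])
  · have hle : A ≤ punct y := fun z hz (e : z = _) => hA (e ▸ hz)
    exact (bij_self _ A).congr rfl (inf_eq_left.2 hle).symm

/-- If the local rings at the points outside `U` are parafactorial, invertible modules extend. -/
theorem ext_of_stalks {U : X.Opens}
    (hpf : ∀ y : X, y ∉ U → _root_.ParaF.IsParafactorialLocalRing (X.presheaf.stalk y)) : Ext X U := by
  intro V M hs hg
  have hO := (supportedOn_iff _ _).1 (supportedOn_of_stalks hpf)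
  let W0 : X.Opens := sSup {O | O ≤ V ∧ ∃ e : Γ(M, O), IsGen M O e}
  have hgenW : GenOn M W0 := fun t ht => by
    obtain ⟨O, hO', htO⟩ := Opens.mem_sSup.1 ht
    obtain ⟨e, he⟩ := hO'.2
    exact ⟨O, htO, le_sSup hO', e, he⟩
  suffices hle : V ≤ W0 by
    intro t ht
    obtain ⟨O, hO', htO⟩ := Opens.mem_sSup.1 (hle ht)
    exact ⟨O, htO, hO'.1, hO'.2⟩
  have hUW : V ⊓ U ≤ W0 := fun t ht => by
    obtain ⟨O, htO, hOVU, he⟩ := hg t ht
    exact Opens.mem_sSup.2 ⟨O, ⟨hOVU.trans inf_le_left, he⟩, htO⟩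
  have hsW : SupportedOn M W0 := (supportedOn_iff _ _).2 fun A =>
    bij_of_le ((supportedOn_iff _ _).1 hs) inf_le_left (inf_le_inf_left A hUW)
  by_contra hle
  obtain ⟨y₀, hy₀V, hy₀⟩ := SetLike.not_le_iff_exists.1 hle
  obtain ⟨y, hyV, hy, hmax⟩ := exists_maximal_point W0 V hy₀V hy₀
  have hyU : y ∉ U := fun hU => hy (hUW ⟨hyV, hU⟩)
  let φ := X.fromSpecStalk y
  haveI : Flat φ := Groth.L05.Point.flat_fromSpecStalk y
  have hP : φ ⁻¹ᵁ W0 = punct y := preimage_eq_punct hy hmax
  haveI := isIso_unit W0.ι (M := M) (by rw [Scheme.Opens.opensRange_ι]; exact hsW)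
  let L := M.restrict W0.ι
  have hL : PicF.IsInvertible L := by
    refine isInvertible_iff.mpr ?_
    have := genOn_restrict W0.ι hgenW
    rwa [Scheme.Opens.ι_preimage_self] at this
  let eM : M ≅ (Scheme.Modules.pushforward W0.ι).obj L :=
    asIso ((Scheme.Modules.restrictAdjunction W0.ι).unit.app M)
  haveI : Coh.IsQCoh L := isQCoh_of_isInvertible hL
  haveI : Coh.IsQCoh ((Scheme.Modules.pushforward W0.ι).obj L) := Groth.L16.QcqsPush.isQCoh_push L W0.ι
  haveI : Coh.IsQCoh M := Groth.L29.DC.isQCoh_of_iso' eM.symm inferInstance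
  have pb := isPullback_morphismRestrict φ W0
  haveI := isIso_bc0_of_qs pb L
  have happ : ∀ A : (Spec (X.presheaf.stalk y)).Opens, IsIso ((φ ⁻¹ᵁ W0).ι.app A) := by
    rw [hP]
    exact (supportedOn_iff_isIso_app _).1 (supportedOn_punct (hpf y hyU))
  have hPic : _root_.ParaF.PicTrivial ((φ ⁻¹ᵁ W0 : (Spec (X.presheaf.stalk y)).Opens) : Scheme.{u}) := by
    rw [hP]
    exact (bij_punct (hpf y hyU)).2
  obtain ⟨triv⟩ := hPic _ (Groth.L18.Ample.isInvertible_pullback (φ ∣_ W0) hL)
  obtain ⟨p⟩ := Groth.L20.DescLocus.nonempty_push_free (φ ⁻¹ᵁ W0).ι happ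
    (triv ≪≫ (coproductUniqueIso (fun _ : Fin 1 => Coh.structureModule (φ ⁻¹ᵁ W0).toScheme)).symm)
  let c : (Scheme.Modules.pullback φ).obj M ≅ Coh.structureModule (Spec (X.presheaf.stalk y)) :=
    (Scheme.Modules.pullback φ).mapIso eM ≪≫ asIso (CohBC.bc0 W0.ι φ (φ ⁻¹ᵁ W0).ι (φ ∣_ W0) pb.w L) ≪≫ p ≪≫
      coproductUniqueIso (fun _ : Fin 1 => Coh.structureModule (Spec (X.presheaf.stalk y)))
  obtain ⟨N, hN, hyN, hNV⟩ := exists_isAffineOpen_mem_and_subset (x := y) (U := V) hyV
  let S := Spec (X.presheaf.stalk y)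
  have htop : (⊤ : S.Opens) ≤ φ ⁻¹ᵁ N := (eq_top_of_mem hyN).ge
  let P := (Scheme.Modules.pullback φ).obj M
  let cc : Γ(P, ⊤) → Γ(S, ⊤) := fun s => c.hom.app ⊤ s
  haveI hloc : IsLocalRing Γ(S, ⊤) :=
    ((Scheme.ΓSpecIso (X.presheaf.stalk y)).commRingCatIsoToRingEquiv.symm).isLocalRing
  obtain ⟨m, hm⟩ : ∃ m : Γ(M, N), IsUnit (cc (Groth.L18.Frame.rs P htop (Groth.L18.Frame.pull φ M N m))) := by
    by_contra hall
    push Not at hall
    have hbase := Groth.L16.AffineBC.isBaseChange_pull φ M hN (isAffineOpen_top _) htop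
    letI : Algebra Γ(X, N) Γ(S, ⊤) := (φ.appLE N ⊤ htop).hom.toAlgebra
    letI := Module.compHom Γ(P, ⊤) (φ.appLE N ⊤ htop).hom
    haveI : IsScalarTower Γ(X, N) Γ(S, ⊤) Γ(P, ⊤) := IsScalarTower.of_algebraMap_smul fun _ _ => rfl
    have hall' : ∀ s : Γ(P, ⊤), ¬ IsUnit (cc s) := by
      intro s
      induction s using hbase.inductionOn with
      | zero => simp only [cc, map_zero]; exact not_isUnit_zero
      | tmul m => exact hall m
      | smul r s hs' =>
        intro hu
        refine hs' (isUnit_of_mul_isUnit_right (x := r) ?_)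
        have he : cc (r • s) = r * cc s := c.hom.app_smul r s
        rwa [← he]
      | add s t hs' ht' =>
        intro hu
        have he : cc (s + t) = cc s + cc t := map_add (c.hom.app ⊤).hom s t
        rw [he] at hu
        exact (IsLocalRing.isUnit_or_isUnit_of_isUnit_add hu).elim hs' ht'
    refine hall' (c.inv.app ⊤ (1 : Γ(S, ⊤))) ?_
    have h1 : cc (c.inv.app ⊤ (1 : Γ(S, ⊤))) = (1 : Γ(S, ⊤)) := by
      show (c.inv ≫ c.hom).app ⊤ (1 : Γ(S, ⊤)) = _
      rw [c.inv_hom_id]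
      rfl
    rw [h1]
    exact isUnit_one
  let G : X.Opens := sSup {O | ∃ h : O ≤ N ⊓ W0, IsGen M O (rs M (h.trans inf_le_left) m)}
  obtain ⟨N', hyN', hdis⟩ := exists_nhd_disjoint (N ⊓ W0) (G : Set X)ᶜ G.isOpen.isClosed_compl y
    (fun t ht htG hty => by
      obtain ⟨z, rfl⟩ := (X.range_fromSpecStalk (x := y)).ge hty
      obtain ⟨O, htO, hOW, ε, hε⟩ := hgenW _ ht.2
      obtain ⟨a, ha⟩ := (hε (O ⊓ N) inf_le_left).2 (rs M inf_le_right m)
      simp only at ha
      let B : S.Opens := φ ⁻¹ᵁ (O ⊓ N)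
      have hBu : IsUnit (φ.app (O ⊓ N) a) := by
        have h1 : (φ.app (O ⊓ N) a) * (show Γ(S, B) from c.hom.app B
              (Groth.L18.Frame.pull φ M (O ⊓ N) (rs M inf_le_left ε))) =
            rO S (le_top : B ≤ ⊤) (cc (Groth.L18.Frame.rs P htop (Groth.L18.Frame.pull φ M N m))) := by
          refine ((c.hom.app_smul (φ.app (O ⊓ N) a) _).symm).trans ?_
          rw [← Groth.L18.Frame.pull_smul, ha]
          refine Eq.trans ?_ (congr($(c.hom.mapPresheaf.naturality (homOfLE (le_top : B ≤ ⊤)).op) _))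
          refine congrArg (c.hom.app B) ?_
          show Groth.L18.Frame.pull φ M (O ⊓ N) (Groth.L18.Frame.rs M inf_le_right m) =
            Groth.L18.Frame.rs P le_top (Groth.L18.Frame.rs P htop (Groth.L18.Frame.pull φ M N m))
          rw [← Groth.L18.Frame.pull_rs, Groth.L18.Frame.rs_rs]
        have h2 : IsUnit (rO S (le_top : B ≤ ⊤) (cc (Groth.L18.Frame.rs P htop (Groth.L18.Frame.pull φ M N m)))) :=
          hm.map (S.presheaf.map (homOfLE (le_top : B ≤ ⊤)).op).hom
        rw [← h1] at h2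
        exact isUnit_of_mul_isUnit_left h2
      have htb : φ z ∈ X.basicOpen a := by
        have hz : z ∈ S.basicOpen (φ.app (O ⊓ N) a) := by
          rw [S.basicOpen_of_isUnit hBu]
          exact ⟨htO, ht.1⟩
        rwa [← Scheme.preimage_basicOpen] at hz
      refine htG (Opens.mem_sSup.2 ⟨X.basicOpen a, ⟨(X.basicOpen_le a).trans (le_inf inf_le_right (inf_le_left.trans hOW)), ?_⟩, htb⟩)
      have h3 := IsGen.smul_unit ((hε.restrict M inf_le_left).restrict M (X.basicOpen_le a))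
        (a := rO X (X.basicOpen_le a) a) (RingedSpace.isUnit_res_basicOpen _ a)
      rw [← rs_smul, ha, rs_rs] at h3
      exact h3)
  let N'' := N ⊓ N'
  refine hy (Opens.mem_sSup.2 ⟨N'', ⟨inf_le_left.trans hNV, rs M inf_le_left m, fun A hA => ?_⟩, ⟨hyN, hyN'⟩⟩)
  have hgen : IsGen M (N'' ⊓ W0) (rs M (inf_le_left.trans inf_le_left) m) := by
    refine isGen_of_locally fun t ht => ?_
    have htG : t ∈ G := not_not.1 (hdis t ht.1.2 ⟨ht.1.1, ht.2⟩)
    obtain ⟨O, ⟨hO', he⟩, htO⟩ := Opens.mem_sSup.1 htG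
    refine ⟨O ⊓ (N'' ⊓ W0), inf_le_right, ⟨htO, ht⟩, ?_⟩
    have := he.restrict M (inf_le_left : O ⊓ (N'' ⊓ W0) ≤ O)
    simp only [rs_rs] at this ⊢
    exact this
  have hAV : A ≤ V := hA.trans (inf_le_left.trans hNV)
  obtain ⟨_, hbM⟩ := (supportedOn_iff _ _).1 hsW A
  obtain ⟨_, hbO⟩ := bij_of_le hO (inf_le_left : A ⊓ W0 ≤ A)
    (fun t ht => ⟨ht.1, hUW ⟨hAV ht.1, ht.2⟩⟩)
  refine (Function.Bijective.of_comp_iff' hbM _).1 ?_
  rw [show ((fun s => rs M (inf_le_left : A ⊓ W0 ≤ A) s) ∘ fun a : Γ(X, A) => a • rs M hA (rs M inf_le_left m)) =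
    (fun b : Γ(X, A ⊓ W0) => b • rs M (inf_le_inf_right W0 hA) (rs M (inf_le_left.trans inf_le_left) m)) ∘
      rO X inf_le_left from funext fun a => by simp only [Function.comp_apply, rs_smul, rs_rs]]
  exact (hgen _ _).comp hbO

/-- A pair whose local rings along the closed set are parafactorial is parafactorial. -/
theorem pair_of_stalks (Z : Closeds X)
    (h : ∀ y : X, y ∈ Z → _root_.ParaF.IsParafactorialLocalRing (X.presheaf.stalk y)) :
    _root_.ParaF.IsParafactorialPair X Z := by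
  have hpf : ∀ y : X, y ∉ Z.compl → _root_.ParaF.IsParafactorialLocalRing (X.presheaf.stalk y) :=
    fun y hy => h y (not_not.1 hy)
  exact (pair_iff Z).2 ⟨supportedOn_of_stalks hpf, ext_of_stalks hpf⟩

end Groth.L07.ParaF
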